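import Groth.Agent.GenBCLib.SteinUnit
import Mathlib.AlgebraicGeometry.Morphisms.Flat

/-!
# Functions of a base change and the degree zero base change map
-/

set_option autoImplicit false
set_option backward.isDefEq.respectTransparency false
set_option backward.defeqAttrib.useBackward true
set_option linter.style.haveILetI false
set_option linter.unusedSectionVars false

universe u

open CategoryTheory CategoryTheory.Limits AlgebraicGeometry TopologicalSpace Opposite TensorProduct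
open Groth.Agent.PullbackMod Groth.Agent.GenBCLib Groth.Agent.ParaFLib

noncomputable section

namespace Groth.Agent.SteinEtLib

variable {X S X' S' : Scheme.{u}} {f : X ⟶ S} {g : S' ⟶ S} {f' : X' ⟶ S'} {g' : X' ⟶ X}
  {V : S.Opens} {V' : S'.Opens}

theorem sqLE (w : g' ≫ f = f' ≫ g) (e : V' ≤ g ⁻¹ᵁ V) : f' ⁻¹ᵁ V' ≤ g' ⁻¹ᵁ (f ⁻¹ᵁ V) := by
  rw [← Scheme.Hom.comp_preimage, w, Scheme.Hom.comp_preimage]
  exact f'.preimage_mono e

theorem app_comm (w : g' ≫ f = f' ≫ g) (e : V' ≤ g ⁻¹ᵁ V) (a : Γ(S, V)) :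
    g'.appLE (f ⁻¹ᵁ V) (f' ⁻¹ᵁ V') (sqLE w e) (f.app V a) = f'.app V' (g.appLE V V' e a) := by
  have key : ∀ (p q : X' ⟶ S) (hp : f' ⁻¹ᵁ V' ≤ p ⁻¹ᵁ V) (hq : f' ⁻¹ᵁ V' ≤ q ⁻¹ᵁ V), p = q →
      p.appLE V (f' ⁻¹ᵁ V') hp = q.appLE V (f' ⁻¹ᵁ V') hq := by
    rintro p q hp hq rfl; rfl
  have h1 : f.app V ≫ g'.appLE (f ⁻¹ᵁ V) (f' ⁻¹ᵁ V') (sqLE w e) = g.appLE V V' e ≫ f'.app V' := by
    rw [Scheme.Hom.app_eq_appLE, Scheme.Hom.app_eq_appLE, Scheme.Hom.appLE_comp_appLE,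
      Scheme.Hom.appLE_comp_appLE]
    exact key _ _ _ _ w
  exact congr($h1 a)

/-- Functions on the base change from functions on the base and on the source. -/
def bcHom (w : g' ≫ f = f' ≫ g) (e : V' ≤ g ⁻¹ᵁ V) :
    letI := (f.app V).hom.toAlgebra
    letI := (g.appLE V V' e).hom.toAlgebra
    Γ(S', V') ⊗[Γ(S, V)] Γ(X, f ⁻¹ᵁ V) →+* Γ(X', f' ⁻¹ᵁ V') :=
  letI := (f.app V).hom.toAlgebra
  letI := (g.appLE V V' e).hom.toAlgebra
  letI := ((f'.app V').hom.comp (g.appLE V V' e).hom).toAlgebra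
  let p : Γ(S', V') →ₐ[Γ(S, V)] Γ(X', f' ⁻¹ᵁ V') :=
    { toRingHom := (f'.app V').hom, commutes' := fun _ => rfl }
  let q : Γ(X, f ⁻¹ᵁ V) →ₐ[Γ(S, V)] Γ(X', f' ⁻¹ᵁ V') :=
    { toRingHom := (g'.appLE (f ⁻¹ᵁ V) (f' ⁻¹ᵁ V') (sqLE w e)).hom, commutes' := fun a => app_comm w e a }
  (Algebra.TensorProduct.lift p q fun _ _ => Commute.all _ _).toRingHom

theorem bcHom_tmul (w : g' ≫ f = f' ≫ g) (e : V' ≤ g ⁻¹ᵁ V) (a : Γ(S', V')) (s : Γ(X, f ⁻¹ᵁ V)) :
    letI := (f.app V).hom.toAlgebra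
    letI := (g.appLE V V' e).hom.toAlgebra
    bcHom w e (a ⊗ₜ s) = f'.app V' a * g'.appLE (f ⁻¹ᵁ V) (f' ⁻¹ᵁ V') (sqLE w e) s := by
  letI := (f.app V).hom.toAlgebra
  letI := (g.appLE V V' e).hom.toAlgebra
  letI := ((f'.app V').hom.comp (g.appLE V V' e).hom).toAlgebra
  exact Algebra.TensorProduct.lift_tmul ..

/-- Along a flat affine base change the functions are the tensor product. -/
theorem bcHom_bijective_of_flat [QuasiCompact f] [QuasiSeparated f] [Flat g] (h : IsPullback g' f' f g)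
    (hV : IsAffineOpen V) (hV' : IsAffineOpen V') (e : V' ≤ g ⁻¹ᵁ V) : Function.Bijective (bcHom h.w e) := by
  letI := (f.app V).hom.toAlgebra
  letI := (g.appLE V V' e).hom.toAlgebra
  have hUY : f' ⁻¹ᵁ V' = g' ⁻¹ᵁ (f ⁻¹ᵁ V) ⊓ f' ⁻¹ᵁ V' := (inf_eq_right.2 (sqLE h.w e)).symm
  haveI := isIso_pushoutSection_of_isQuasiSeparated_of_flat_right h e (le_refl (f ⁻¹ᵁ V)) hUY hV hV'
    (f.isCompact_preimage hV.isCompact) (f.isQuasiSeparated_preimage hV.isQuasiSeparated)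
  have P := (isIso_pushoutSection_iff h e (le_refl (f ⁻¹ᵁ V)) hUY).1 inferInstance
  have Q := (CommRingCat.isPushout_tensorProduct Γ(S, V) Γ(S', V') Γ(X, f ⁻¹ᵁ V)).flip
  let ψ := P.desc (CommRingCat.ofHom Algebra.TensorProduct.includeRight.toRingHom)
    (CommRingCat.ofHom Algebra.TensorProduct.includeLeftRingHom) (by
      rw [← Scheme.Hom.app_eq_appLE]; exact Q.w)
  let Φ : CommRingCat.of (Γ(S', V') ⊗[Γ(S, V)] Γ(X, f ⁻¹ᵁ V)) ⟶ Γ(X', f' ⁻¹ᵁ V') :=
    CommRingCat.ofHom (bcHom h.w e)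
  have h1 : ψ ≫ Φ = 𝟙 _ := by
    refine P.hom_ext ?_ ?_ <;> simp only [ψ, IsPushout.inl_desc_assoc, IsPushout.inr_desc_assoc, Category.comp_id]
    · refine CommRingCat.hom_ext (RingHom.ext fun s => ?_)
      show bcHom h.w e (1 ⊗ₜ s) = _
      rw [bcHom_tmul, map_one, one_mul]
    · refine CommRingCat.hom_ext (RingHom.ext fun a => ?_)
      show bcHom h.w e (a ⊗ₜ 1) = _
      rw [bcHom_tmul, map_one, mul_one, Scheme.Hom.app_eq_appLE]
  have h2 : Φ ≫ ψ = 𝟙 _ := by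
    refine Q.hom_ext ?_ ?_
    · refine CommRingCat.hom_ext (RingHom.ext fun s => ?_)
      show ψ (bcHom h.w e (1 ⊗ₜ s)) = 1 ⊗ₜ s
      rw [bcHom_tmul, map_one, one_mul]
      exact RingHom.congr_fun (congrArg CommRingCat.Hom.hom (P.inl_desc _ _ _)) s
    · refine CommRingCat.hom_ext (RingHom.ext fun a => ?_)
      show ψ (bcHom h.w e (a ⊗ₜ 1)) = a ⊗ₜ 1
      rw [bcHom_tmul, map_one, mul_one, Scheme.Hom.app_eq_appLE]
      exact RingHom.congr_fun (congrArg CommRingCat.Hom.hom (P.inr_desc _ _ _)) a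
  haveI : IsIso Φ := ⟨ψ, h2, h1⟩
  exact ConcreteCategory.bijective_of_isIso Φ

/-- The degree zero base change map on the structure module is `bcHom`. -/
theorem bc0_iff (h : IsPullback g' f' f g) [QuasiCompact f] [QuasiSeparated f]
    (hV : IsAffineOpen V) (hV' : IsAffineOpen V') (e : V' ≤ g ⁻¹ᵁ V) :
    (Function.Surjective ((CohBC.bc0 f g f' g' h.w (Coh.structureModule X)).app V') ↔
      Function.Surjective (bcHom h.w e)) ∧
    (Function.Injective ((CohBC.bc0 f g f' g' h.w (Coh.structureModule X)).app V') ↔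
      Function.Injective (bcHom h.w e)) := by
  letI := (f.app V).hom.toAlgebra
  letI := (g.appLE V V' e).hom.toAlgebra
  let F := Coh.structureModule X
  haveI : Coh.IsQCoh F := (DevLib.isCoh_structureModule X).1
  let M := (Scheme.Modules.pushforward f).obj F
  haveI : Coh.IsQCoh M := QCohLib.isQCoh_pushforward F f
  letI := Module.compHom Γ((Scheme.Modules.pullback g).obj M, V') (g.appLE V V' e).hom
  haveI : IsScalarTower Γ(S, V) Γ(S', V') Γ((Scheme.Modules.pullback g).obj M, V') :=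
    .of_algebraMap_smul fun _ _ => rfl
  have le := sqLE h.w e
  let one : Γ(F, f ⁻¹ᵁ V) := (1 : Γ(X, f ⁻¹ᵁ V))
  let G := (Scheme.Modules.pullback g').obj F
  let one' : Γ(G, f' ⁻¹ᵁ V') := pullMap g' F le one
  let σ : Γ(X', f' ⁻¹ᵁ V') → Γ(G, f' ⁻¹ᵁ V') := fun r => r • one'
  have hσ : Function.Bijective σ := by
    have hg : Gen (g' ⁻¹ᵁ (f ⁻¹ᵁ V)) (pullMap g' F le_rfl one) :=
      AmpleEmb.gen_pullMap g' isInvertible_structureModule (gen_one _)
    have h1 := hg (f' ⁻¹ᵁ V') le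
    have h2 : G.presheaf.map (homOfLE le).op (pullMap g' F le_rfl one) = one' := by
      refine (pullMap_res g' F le_rfl le_rfl le le one).trans ?_
      simp [one']
    rw [h2] at h1
    exact h1
  let E := (isBaseChange_pullMapL g M hV hV' e).equiv
  let T := CohBC.bc0 f g f' g' h.w F
  have key : ∀ x : Γ(S', V') ⊗[Γ(S, V)] Γ(X, f ⁻¹ᵁ V), T.app V' (E x) = σ (bcHom h.w e x) := by
    intro x
    induction x using TensorProduct.induction_on with
    | zero =>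
      rw [map_zero, map_zero, map_zero]
      exact (zero_smul Γ(X', f' ⁻¹ᵁ V') one').symm
    | tmul a s =>
      rw [show E (a ⊗ₜ s) = a • pullMap g M e (show Γ(F, f ⁻¹ᵁ V) from s) from IsBaseChange.equiv_tmul _ a s,
        Scheme.Modules.Hom.app_smul, bc0_pullMap h.w F e le, bcHom_tmul]
      have h3 : pullMap g' F le (show Γ(F, f ⁻¹ᵁ V) from s) = g'.appLE (f ⁻¹ᵁ V) (f' ⁻¹ᵁ V') le s • one' := by
        refine Eq.trans ?_ (pullMap_smul g' F le s one)
        exact congrArg (pullMap g' F le) (mul_one (show Γ(X, f ⁻¹ᵁ V) from s)).symm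
      show f'.app V' a • (pullMap g' F le (show Γ(F, f ⁻¹ᵁ V) from s) : Γ(G, f' ⁻¹ᵁ V')) = _
      rw [h3]
      exact (mul_smul (f'.app V' a) _ one').symm
    | add x y hx hy =>
      rw [map_add, map_add, hx, hy, map_add]
      exact (add_smul (bcHom h.w e x) (bcHom h.w e y) one').symm
  have hcomp : (T.app V') ∘ E = σ ∘ bcHom h.w e := funext key
  refine ⟨?_, ?_⟩
  · exact (E.surjective.of_comp_iff (T.app V')).symm.trans (by rw [hcomp]; exact Function.Surjective.of_comp_iff' hσ _)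
  · exact (Function.Injective.of_comp_iff' (T.app V') E.bijective).symm.trans (by rw [hcomp]; exact hσ.1.of_comp_iff _)

end Groth.Agent.SteinEtLib
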