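import Groth.Agent.SteinEtLib.Lift
import Groth.Agent.SteinEtLib.BC
import Groth.Agent.Henselization.Basic
import Groth.Agent.GenBCLib.SecLocFree

/-!
# The direct image of the functions of a proper flat morphism with geometrically reduced fibres is finite étale
-/

set_option autoImplicit false
set_option backward.isDefEq.respectTransparency false
set_option backward.defeqAttrib.useBackward true
set_option linter.style.haveILetI false
set_option linter.unusedSectionVars false
set_option maxHeartbeats 1000000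

universe u

open CategoryTheory CategoryTheory.Limits AlgebraicGeometry TopologicalSpace Opposite TensorProduct
open Groth.Agent.PullbackMod Groth.Agent.GenBCLib Groth.Agent.BCLib

noncomputable section

namespace Groth.Agent.SteinEtLib

/-- Surjectivity of base change descends along extensions of fields. -/
theorem bcSurj_of_extension {A : Type u} [CommRing A] (L : Cx A) (K K' : Type u) [Field K] [Field K']
    [Algebra A K] [Algebra A K'] (φ : K →ₐ[A] K') (h : L.BCSurj K' 0) : L.BCSurj K 0 := fun z hz => by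
  letI : Algebra K K' := φ.toRingHom.toAlgebra
  haveI : IsScalarTower A K K' := .of_algebraMap_eq fun a => (φ.commutes a).symm
  let W := LinearMap.range (L.zIncl K 0)
  suffices z ∈ W by
    obtain ⟨w, hw⟩ := this
    exact ⟨w, by rw [hw, sub_self]; exact zero_mem _⟩
  let c : K' ⊗[K] (K ⊗[A] L.X 0) ≃ₗ[K'] K' ⊗[A] L.X 0 :=
    TensorProduct.AlgebraTensorModule.cancelBaseChange A K K' K' (L.X 0)
  rw [← Submodule.Quotient.mk_eq_zero]
  apply Module.FaithfullyFlat.tensorProduct_mk_injective (A := K) (B := K') ((K ⊗[A] L.X 0) ⧸ W)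
  show (1 : K') ⊗ₜ[K] W.mkQ z = (1 : K') ⊗ₜ[K] (0 : (K ⊗[A] L.X 0) ⧸ W)
  rw [tmul_zero]
  have hz' : φ.toLinearMap.rTensor (L.X 0) z ∈ L.zBC K' 0 := L.map_mem_zBC φ.toLinearMap hz
  obtain ⟨w', hw'⟩ := h _ hz'
  have hw'' : φ.toLinearMap.rTensor (L.X 0) z = L.zIncl K' 0 w' := sub_eq_zero.1 ((Submodule.mem_bot _).1 hw')
  have hc : ∀ u, c ((1 : K') ⊗ₜ[K] u) = φ.toLinearMap.rTensor (L.X 0) u := fun u => by
    induction u using TensorProduct.induction_on with
    | zero => rw [tmul_zero, map_zero, map_zero]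
    | tmul a x =>
      rw [show c ((1 : K') ⊗ₜ[K] (a ⊗ₜ[A] x)) = (a • (1 : K')) ⊗ₜ[A] x from
        TensorProduct.AlgebraTensorModule.cancelBaseChange_tmul ..]
      rw [LinearMap.rTensor_tmul, Algebra.smul_def, mul_one]
      rfl
    | add x y hx hy => rw [tmul_add, map_add, map_add, hx, hy]
  have key : ∀ w' : K' ⊗[A] ↥(LinearMap.ker (L.d 0)),
      W.mkQ.baseChange K' (c.symm (L.zIncl K' 0 w')) = 0 := fun w' => by
    induction w' using TensorProduct.induction_on with
    | zero => simp only [map_zero]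
    | tmul a x =>
      have h1 : L.zIncl K' 0 (a ⊗ₜ x) = c (a ⊗ₜ[K] L.zIncl K 0 (1 ⊗ₜ x)) := by
        show a ⊗ₜ[A] x.1 = c (a ⊗ₜ[K] ((1 : K) ⊗ₜ[A] x.1))
        rw [show c (a ⊗ₜ[K] ((1 : K) ⊗ₜ[A] x.1)) = ((1 : K) • a) ⊗ₜ[A] x.1 from
          TensorProduct.AlgebraTensorModule.cancelBaseChange_tmul .., one_smul]
      rw [h1, LinearEquiv.symm_apply_apply, LinearMap.baseChange_tmul,
        show W.mkQ (L.zIncl K 0 (1 ⊗ₜ x)) = 0 from (Submodule.Quotient.mk_eq_zero _).2 ⟨_, rfl⟩, tmul_zero]
    | add x y hx hy => rw [map_add, map_add, map_add, hx, hy, add_zero]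
  have h2 := key w'
  rw [← hw'', ← hc z, LinearEquiv.symm_apply_apply, LinearMap.baseChange_tmul] at h2
  exact h2

/-- An algebra spanned by idempotents has no differentials. -/
theorem subsingleton_kaehler {K C : Type u} [CommRing K] [CommRing C] [Algebra K C]
    (h : ∀ c : C, ∃ (n : ℕ) (a : Fin n → K) (e : Fin n → C), (∀ j, IsIdempotentElem (e j)) ∧ c = ∑ j, a j • e j) :
    Subsingleton (Ω[C⁄K]) := by
  suffices ∀ c, KaehlerDifferential.D K C c = 0 by
    have htop := KaehlerDifferential.span_range_derivation K C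
    rw [show Set.range (KaehlerDifferential.D K C) = {0} from Set.eq_singleton_iff_unique_mem.2
      ⟨⟨0, map_zero _⟩, by rintro _ ⟨c, rfl⟩; exact this c⟩, Submodule.span_singleton_eq_bot.2 rfl] at htop
    exact ⟨fun a b => ((Submodule.mem_bot C).1 (htop ▸ Submodule.mem_top : a ∈ ⊥)).trans
      ((Submodule.mem_bot C).1 (htop ▸ Submodule.mem_top : b ∈ ⊥)).symm⟩
  intro c
  obtain ⟨n, a, e, he, rfl⟩ := h c
  rw [map_sum]
  refine Finset.sum_eq_zero fun j _ => ?_
  let D := KaehlerDifferential.D K C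
  have h1 : D (e j) = e j • D (e j) + e j • D (e j) := by
    conv_lhs => rw [← (he j).eq]
    exact D.leibniz _ _
  have h2 : (1 - (e j + e j)) * (1 - (e j + e j)) = 1 := by linear_combination 4 * (he j).eq
  have h3 : (1 - (e j + e j)) • D (e j) = 0 := by rw [sub_smul, one_smul, add_smul, ← h1, sub_self]
  show D (a j • e j) = 0
  rw [D.map_smul, show D (e j) = ((1 - (e j + e j)) * (1 - (e j + e j))) • D (e j) by rw [h2, one_smul], mul_smul,
    h3, smul_zero, smul_zero]

variable {X S : Scheme.{u}} {f : X ⟶ S} [IsProper f] [Flat f] [LocallyOfFinitePresentation f] [GeometricallyReduced f]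

/-- A strictly henselian test object at a point of an affine open. -/
theorem exists_test {V : S.Opens} (hV : IsAffineOpen V) {s : S} (hs : s ∈ V) :
    ∃ (R : Type u) (_ : CommRing R) (_ : HenselianLocalRing R) (_ : IsSepClosed (IsLocalRing.ResidueField R))
      (φ : Γ(S, V) →+* R), φ.Flat ∧
      RingHom.ker ((IsLocalRing.residue R).comp φ) = (hV.primeIdealOf ⟨s, hs⟩).asIdeal := by
  let A := Γ(S, V)
  let p := (hV.primeIdealOf ⟨s, hs⟩).asIdeal
  let O := Localization.AtPrime p
  obtain ⟨R, _, _, _, _, hR⟩ := Henselization.exists_strictHenselization O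
  obtain ⟨e⟩ := Henselization.exists_algEquiv_of_isStrictHenselization O R
  haveI := hR.henselian
  haveI : Module.Flat O R := Module.Flat.of_linearEquiv e.symm.toLinearEquiv
  haveI : IsSepClosed (IsLocalRing.ResidueField R) := hR.isSepClosure.sep_closed
  refine ⟨R, inferInstance, hR.henselian, inferInstance, (algebraMap O R).comp (algebraMap A O),
    RingHom.Flat.comp (RingHom.flat_algebraMap_iff.2 inferInstance) (RingHom.flat_algebraMap_iff.2 inferInstance), ?_⟩
  ext a
  rw [RingHom.mem_ker, RingHom.comp_apply, IsLocalRing.residue_eq_zero_iff, RingHom.comp_apply,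
    IsLocalRing.mem_maximalIdeal, map_mem_nonunits_iff, ← IsLocalRing.mem_maximalIdeal,
    ← Ideal.mem_comap]
  exact Iff.of_eq (congrArg (fun I : Ideal A => a ∈ I) (IsLocalization.AtPrime.comap_maximalIdeal O p))

section fibre

variable {V : S.Opens} (hV : IsAffineOpen V) {R : Type u} [CommRing R] [HenselianLocalRing R]
  [IsSepClosed (IsLocalRing.ResidueField R)] (φ : Γ(S, V) →+* R)

/-- The closed point of the test object. -/
abbrev closedPt : Spec (CommRingCat.of (IsLocalRing.ResidueField R)) ⟶ S :=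
  Spec.map (CommRingCat.ofHom (IsLocalRing.residue R)) ≫ Spec.map (CommRingCat.ofHom φ) ≫ hV.fromSpec

theorem closedPt_le : (⊤ : (Spec (CommRingCat.of (IsLocalRing.ResidueField R))).Opens) ≤ closedPt hV φ ⁻¹ᵁ V :=
  fun x _ => by
    show closedPt hV φ x ∈ V
    rw [← SetLike.mem_coe, ← hV.range_fromSpec]
    exact ⟨_, rfl⟩

include hV in
theorem surjective_fibre (hφ : φ.Flat) :
    Function.Surjective (bcHom (IsPullback.of_hasPullback f (closedPt hV φ)).w (closedPt_le hV φ)) := by
  let k := IsLocalRing.ResidueField R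
  let gR : Spec (CommRingCat.of R) ⟶ S := Spec.map (CommRingCat.ofHom φ) ≫ hV.fromSpec
  let j : Spec (CommRingCat.of k) ⟶ Spec (CommRingCat.of R) := Spec.map (CommRingCat.ofHom (IsLocalRing.residue R))
  let g0 := closedPt hV φ
  haveI : Flat (Spec.map (CommRingCat.ofHom φ)) := by rw [HasRingHomProperty.Spec_iff (P := @Flat)]; exact hφ
  haveI : Flat gR := inferInstanceAs (Flat (Spec.map (CommRingCat.ofHom φ) ≫ hV.fromSpec))
  have eR : (⊤ : (Spec (CommRingCat.of R)).Opens) ≤ gR ⁻¹ᵁ V := fun x _ => by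
    show gR x ∈ V
    rw [← SetLike.mem_coe, ← hV.range_fromSpec]
    exact ⟨_, rfl⟩
  let fR := pullback.snd f gR
  let gR' := pullback.fst f gR
  let f0 := pullback.snd f g0
  let g0' := pullback.fst f g0
  have hsqR : IsPullback gR' fR f gR := IsPullback.of_hasPullback f gR
  let i : pullback f g0 ⟶ pullback f gR := pullback.lift g0' (f0 ≫ j) (by
    rw [pullback.condition, Category.assoc])
  have hi1 : i ≫ gR' = g0' := pullback.lift_fst _ _ _
  have hi2 : i ≫ fR = f0 ≫ j := pullback.lift_snd _ _ _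
  have hsq : IsPullback i f0 fR j :=
    IsPullback.of_right (by rw [hi1]; exact IsPullback.of_hasPullback f g0) hi2 hsqR
  haveI : IsClosedImmersion j := IsClosedImmersion.spec_of_surjective _ Ideal.Quotient.mk_surjective
  have hci : IsClosedImmersion i := MorphismProperty.of_isPullback (P := @IsClosedImmersion) hsq.flip inferInstance
  have hrange : Set.range i = fR ⁻¹' {IsLocalRing.closedPoint R} := by
    rw [← hsq.isoPullback_hom_fst, Scheme.Hom.comp_base, TopCat.coe_comp, Set.range_comp,
      hsq.isoPullback.hom.surjective.range_eq, Set.image_univ, Scheme.Pullback.range_fst]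
    congr 1
    ext x
    constructor
    · rintro ⟨y, rfl⟩
      show PrimeSpectrum.comap (IsLocalRing.residue R) y = _
      refine PrimeSpectrum.ext ?_
      rw [Subsingleton.elim y (IsLocalRing.closedPoint k)]
      show Ideal.comap _ (IsLocalRing.maximalIdeal k) = _
      rw [IsLocalRing.maximalIdeal_eq_bot, ← RingHom.ker_eq_comap_bot, IsLocalRing.ker_residue]
      rfl
    · rintro rfl
      refine ⟨IsLocalRing.closedPoint k, ?_⟩
      refine PrimeSpectrum.ext ?_
      show Ideal.comap (IsLocalRing.residue R) (IsLocalRing.maximalIdeal k) = _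
      rw [IsLocalRing.maximalIdeal_eq_bot, ← RingHom.ker_eq_comap_bot, IsLocalRing.ker_residue]
      rfl
  haveI : GeometricallyReduced f0 := MorphismProperty.pullback_snd _ _ ‹_›
  intro y
  have htop : f0 ⁻¹ᵁ (⊤ : (Spec (CommRingCat.of k)).Opens) = ⊤ := rfl
  obtain ⟨n, c, e, he, hy⟩ := mem_span_idempotent f0 (show Γ(pullback f g0, ⊤) from y)
  letI := (f.app V).hom.toAlgebra
  letI := (gR.appLE V ⊤ eR).hom.toAlgebra
  letI := (g0.appLE V ⊤ (closedPt_le hV φ)).hom.toAlgebra
  let Φ := bcHom (IsPullback.of_hasPullback f g0).w (closedPt_le hV φ)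
  suffices h : ∀ b : Γ(pullback f gR, ⊤), (show Γ(pullback f g0, f0 ⁻¹ᵁ ⊤) from i.appTop b) ∈ Φ.range by
    have hy' : y ∈ Φ.range := by
      rw [show y = _ from hy]
      refine Subring.sum_mem _ fun m _ => Subring.mul_mem _ ?_ ?_
      · refine ⟨c m ⊗ₜ 1, ?_⟩
        rw [bcHom_tmul, map_one, mul_one]
        rfl
      · obtain ⟨b, hb⟩ := exists_lift_idempotent fR i hci hrange (he m)
        rw [← hb]
        exact h b
    exact hy'
  intro b
  obtain ⟨t, rfl⟩ := (bcHom_bijective_of_flat hsqR hV (isAffineOpen_top _) eR).2 b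
  induction t using TensorProduct.induction_on with
  | zero => rw [map_zero, map_zero]; exact Subring.zero_mem _
  | tmul r s =>
    rw [bcHom_tmul]
    refine (show _ = i.appTop (fR.app ⊤ r) * i.appTop (gR'.appLE _ _ (sqLE hsqR.w eR) s) from map_mul _ _ _).symm ▸
      Subring.mul_mem _ ?_ ?_
    · refine ⟨j.appTop r ⊗ₜ 1, ?_⟩
      rw [bcHom_tmul, map_one, mul_one]
      show (j.appTop ≫ f0.appTop) r = (fR.appTop ≫ i.appTop) r
      rw [← Scheme.Hom.comp_appTop, ← Scheme.Hom.comp_appTop, hi2]
    · refine ⟨1 ⊗ₜ s, ?_⟩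
      rw [bcHom_tmul, map_one, one_mul]
      have key : ∀ (q : pullback f g0 ⟶ X) (hq : (⊤ : (pullback f g0).Opens) ≤ q ⁻¹ᵁ (f ⁻¹ᵁ V)), q = g0' →
          q.appLE (f ⁻¹ᵁ V) ⊤ hq = g0'.appLE (f ⁻¹ᵁ V) (f0 ⁻¹ᵁ ⊤) (sqLE (IsPullback.of_hasPullback f g0).w (closedPt_le hV φ)) := by
        rintro q hq rfl; rfl
      have h1 : gR'.appLE (f ⁻¹ᵁ V) ⊤ (sqLE hsqR.w eR) ≫ i.appTop =
          g0'.appLE (f ⁻¹ᵁ V) (f0 ⁻¹ᵁ ⊤) (sqLE (IsPullback.of_hasPullback f g0).w (closedPt_le hV φ)) := by
        rw [Scheme.Hom.appTop, Scheme.Hom.app_eq_appLE, Scheme.Hom.appLE_comp_appLE]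
        exact key _ _ hi1
      exact congr($h1 s).symm
  | add a b ha hb => rw [map_add, map_add]; exact Subring.add_mem _ ha hb

end fibre

theorem goodNear (s : S) : GoodNear f (Coh.structureModule X) 0 s := by
  let F := Coh.structureModule X
  haveI : Coh.IsQCoh F := (DevLib.isCoh_structureModule X).1
  obtain ⟨V, D, hs⟩ := exists_dat_at (FlatStage.isFP_structureModule X) (BCLib.isFlatOver_structureModule f) s
  obtain ⟨R, _, _, _, φ, hφ, hker⟩ := exists_test D.hV hs
  let k := IsLocalRing.ResidueField R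
  let g0 := closedPt D.hV φ
  let f0 := pullback.snd f g0
  let g0' := pullback.fst f g0
  have h : IsPullback g0' f0 f g0 := IsPullback.of_hasPullback f g0
  have hsurj := (bc0_iff h D.hV (isAffineOpen_top _) (closedPt_le D.hV φ)).1.2 (surjective_fibre D.hV φ hφ)
  haveI := isQCoh_restrict F (f ⁻¹ᵁ V)
  haveI : IsSeparated f0 := MorphismProperty.pullback_snd _ _ inferInstance
  haveI : QuasiCompact f0 := MorphismProperty.pullback_snd _ _ inferInstance
  haveI : Coh.IsQCoh ((Scheme.Modules.pullback g0').obj F) := PullbackMod.isQCoh_pullback _ F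
  haveI := isQCoh_restrict ((Scheme.Modules.pullback g0').obj F) (f0 ⁻¹ᵁ ⊤)
  have h1 := (bc0_app_criterion h D.hV (isAffineOpen_top _) (closedPt_le D.hV φ) D.W F D.hcov D.haff).1.1 hsurj
  letI := (g0.appLE V ⊤ (closedPt_le D.hV φ)).hom.toAlgebra
  rw [D.ψ.bcSurj_iff _ (D.bij _) (D.bij _) 0] at h1
  let ψk : Γ(S, V) →+* k := (IsLocalRing.residue R).comp φ
  letI : Algebra Γ(S, V) k := ψk.toAlgebra
  let θ : k ≃ₐ[Γ(S, V)] Γ(Spec (CommRingCat.of k), ⊤) :=
    AlgEquiv.ofRingEquiv (f := (Scheme.ΓSpecIso (CommRingCat.of k)).symm.commRingCatIsoToRingEquiv) fun a => by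
      have h2 := appLE_specMap_fromSpec D.hV (CommRingCat.ofHom ψk) g0
        (by rw [show CommRingCat.ofHom ψk = CommRingCat.ofHom φ ≫ CommRingCat.ofHom (IsLocalRing.residue R) from rfl,
          Spec.map_comp, Category.assoc]) (closedPt_le D.hV φ)
      exact (congr($h2 a)).symm
  rw [← D.L.bcSurj_congr θ] at h1
  let q := D.idl hs
  let φ' : q.ResidueField →ₐ[Γ(S, V)] k :=
    { toRingHom := Ideal.ResidueField.lift q ψk (hker ▸ le_rfl) (fun a ha => by
        refine IsUnit.mk0 _ fun h0 => ha ?_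
        show a ∈ q
        rw [show q = RingHom.ker ψk from hker.symm]
        exact h0)
      commutes' := fun a => Ideal.ResidueField.lift_algebraMap _ _ _ _ a }
  obtain ⟨a, ha, hg⟩ := D.exists_good hs (bcSurj_of_extension D.L q.ResidueField k φ' h1)
  exact ⟨V, D, a, ha, hg⟩

/-- Functions commute with every base change. -/
theorem bcHom_bijective {X' S' : Scheme.{u}} {g : S' ⟶ S} {f' : X' ⟶ S'} {g' : X' ⟶ X}
    (h : IsPullback g' f' f g) {V : S.Opens} {V' : S'.Opens} (hV : IsAffineOpen V) (hV' : IsAffineOpen V')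
    (e : V' ≤ g ⁻¹ᵁ V) : Function.Bijective (bcHom h.w e) := by
  let F := Coh.structureModule X
  haveI : Coh.IsQCoh F := (DevLib.isCoh_structureModule X).1
  haveI : IsSeparated f' := MorphismProperty.of_isPullback (P := @IsSeparated) h inferInstance
  haveI : QuasiCompact f' := MorphismProperty.of_isPullback (P := @QuasiCompact) h inferInstance
  haveI : Coh.IsQCoh ((Scheme.Modules.pullback g').obj F) := PullbackMod.isQCoh_pullback _ F
  haveI := isIso_bc0 h F fun z => goodNear (f := f) (g z)
  have hb := ConcreteCategory.bijective_of_isIso ((CohBC.bc0 f g f' g' h.w F).app V')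
  exact ⟨(bc0_iff h hV hV' e).2.1 hb.1, (bc0_iff h hV hV' e).1.1 hb.2⟩

/-- Functions over an affine open form a finite étale algebra. -/
theorem finite_etale {V : S.Opens} (hV : IsAffineOpen V) : (f.app V).hom.Finite ∧ (f.app V).hom.Etale := by
  let F := Coh.structureModule X
  haveI : Coh.IsQCoh F := (DevLib.isCoh_structureModule X).1
  let M := (Scheme.Modules.pushforward f).obj F
  haveI : Coh.IsQCoh M := QCohLib.isQCoh_pushforward F f
  have hlf : FlatMod.IsFinLocFree M := isFinLocFree_of_nhds _ fun s => by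
    obtain ⟨W, D, a, ha, hg⟩ := goodNear (f := f) s
    exact ⟨S.basicOpen a, ha, D.isFinLocFree_restrict_of_good hg⟩
  obtain ⟨hfin, hproj⟩ := finite_projective_sections M hV (U := ⊤)
    (DCohLib.isFinLocFree_restrict (⊤ : S.Opens).ι hlf) le_top
  let A := Γ(S, V)
  let B := Γ(X, f ⁻¹ᵁ V)
  algebraize [(f.app V).hom]
  let L : Γ(M, V) ≃ₗ[A] B := { AddEquiv.refl Γ(X, f ⁻¹ᵁ V) with map_smul' := fun a b => rfl }
  haveI : Module.Finite A B := Module.Finite.equiv L
  haveI : Module.Projective A B := Module.Projective.of_equiv L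
  haveI : Module.FinitePresentation A B := Module.finitePresentation_of_projective A B
  haveI : Algebra.FinitePresentation A B := inferInstance
  haveI : Module.Finite A (Ω[B⁄A]) := Module.Finite.trans B _
  haveI : Algebra.FormallyUnramified A B := by
    refine ⟨?_⟩
    rw [← Module.support_eq_empty_iff (R := A), Set.eq_empty_iff_forall_notMem]
    intro p hp
    let s := hV.fromSpec p
    have hs : s ∈ V := by rw [← SetLike.mem_coe, ← hV.range_fromSpec]; exact ⟨p, rfl⟩
    have hps : hV.primeIdealOf ⟨s, hs⟩ = p :=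
      hV.fromSpec.isOpenEmbedding.injective (hV.fromSpec_primeIdealOf ⟨s, hs⟩)
    obtain ⟨R, _, _, _, φ, hφ, hker⟩ := exists_test hV hs
    rw [hps] at hker
    let k := IsLocalRing.ResidueField R
    let g0 := closedPt hV φ
    let f0 := pullback.snd f g0
    have h : IsPullback (pullback.fst f g0) f0 f g0 := IsPullback.of_hasPullback f g0
    let K := Γ(Spec (CommRingCat.of k), ⊤)
    letI : Algebra A K := (g0.appLE V ⊤ (closedPt_le hV φ)).hom.toAlgebra
    let Φ := RingEquiv.ofBijective _ (bcHom_bijective h hV (isAffineOpen_top _) (closedPt_le hV φ))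
    haveI : GeometricallyReduced f0 := MorphismProperty.pullback_snd _ _ ‹_›
    have hΩ : Subsingleton (Ω[K ⊗[A] B⁄K]) := subsingleton_kaehler fun t => by
      obtain ⟨n, c, e, he, ht⟩ := mem_span_idempotent f0 (show Γ(pullback f g0, ⊤) from Φ t)
      refine ⟨n, c, fun j => Φ.symm (e j), fun j => (he j).map Φ.symm, ?_⟩
      apply Φ.injective
      rw [map_sum]
      refine ht.trans (Finset.sum_congr rfl fun j _ => ?_)
      rw [Algebra.smul_def, map_mul, RingEquiv.apply_symm_apply]
      congr 1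
      show _ = bcHom h.w (closedPt_le hV φ) (c j ⊗ₜ 1)
      rw [bcHom_tmul, map_one, mul_one]
      rfl
    letI : Algebra B (K ⊗[A] B) := Algebra.TensorProduct.rightAlgebra
    have hKΩ : Subsingleton (K ⊗[A] Ω[B⁄A]) :=
      (KaehlerDifferential.tensorKaehlerEquivBase A K B (K ⊗[A] B)).toEquiv.subsingleton
    let ψk : A →+* k := (IsLocalRing.residue R).comp φ
    letI : Algebra A k := ψk.toAlgebra
    let θ : k ≃ₐ[A] K :=
      AlgEquiv.ofRingEquiv (f := (Scheme.ΓSpecIso (CommRingCat.of k)).symm.commRingCatIsoToRingEquiv) fun a => by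
        have h2 := appLE_specMap_fromSpec hV (CommRingCat.ofHom ψk) g0
          (by rw [show CommRingCat.ofHom ψk = CommRingCat.ofHom φ ≫ CommRingCat.ofHom (IsLocalRing.residue R) from rfl,
            Spec.map_comp, Category.assoc]) (closedPt_le hV φ)
        exact (congr($h2 a)).symm
    have hkΩ : Subsingleton (k ⊗[A] Ω[B⁄A]) := (TensorProduct.congr θ.toLinearEquiv (LinearEquiv.refl A _)).toEquiv.subsingleton
    let q := p.asIdeal
    let φ' : q.ResidueField →+* k := Ideal.ResidueField.lift q ψk (hker ▸ le_rfl) (fun a ha => by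
        refine IsUnit.mk0 _ fun h0 => ha ?_
        show a ∈ q
        rw [show q = RingHom.ker ψk from hker.symm]
        exact h0)
    letI : Algebra q.ResidueField k := φ'.toAlgebra
    haveI : IsScalarTower A q.ResidueField k := .of_algebraMap_eq fun a =>
      (Ideal.ResidueField.lift_algebraMap _ _ _ _ a).symm
    have hqΩ : Subsingleton (q.ResidueField ⊗[A] Ω[B⁄A]) := by
      haveI : Subsingleton (k ⊗[q.ResidueField] (q.ResidueField ⊗[A] Ω[B⁄A])) :=
        (TensorProduct.AlgebraTensorModule.cancelBaseChange A q.ResidueField k k (Ω[B⁄A])).toEquiv.subsingleton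
      exact (Module.FaithfullyFlat.subsingleton_tensorProduct_iff_right q.ResidueField k).1 inferInstance
    exact (not_nontrivial_iff_subsingleton.2 hqΩ) ((Module.mem_support_iff_nontrivial_residueField_tensorProduct p).1 hp)
  haveI : Algebra.Etale A B := .of_formallyUnramified_of_flat
  exact ⟨RingHom.finite_algebraMap.2 inferInstance, RingHom.etale_algebraMap.2 inferInstance⟩

end Groth.Agent.SteinEtLib
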