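import Groth.Agent.SteinEtLib.Main
import Groth.Agent.EtFibCard.Basic
import Groth.Agent.ASp.RedSub
import Mathlib.AlgebraicGeometry.Morphisms.FlatMono
import Groth.Prelude.Def_FEt
import Mathlib.AlgebraicGeometry.AlgClosed.Basic

/-!
# Exactness of the homotopy sequence in the middle
-/

set_option autoImplicit false
set_option backward.isDefEq.respectTransparency false
set_option linter.style.haveILetI false
set_option linter.unusedSectionVars false
set_option maxHeartbeats 1000000

universe u

open CategoryTheory CategoryTheory.Limits AlgebraicGeometry TopologicalSpace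

noncomputable section

namespace Groth.Agent.SteinEtLib

theorem exists_point {P : Scheme.{u}} {Ω : Type u} [Field Ω] [IsAlgClosed Ω] (b : P ⟶ Spec (CommRingCat.of Ω))
    [LocallyOfFiniteType b] (z : P) (hz : IsClosed ({z} : Set P)) :
    ∃ q : Spec (CommRingCat.of Ω) ⟶ P, q ≫ b = 𝟙 _ ∧ q (IsLocalRing.closedPoint Ω) = z :=
  ⟨pointOfClosedPoint b z hz, pointOfClosedPoint_comp b z hz, pointOfClosedPoint_apply b z hz _⟩

theorem essImage_of_section {X S : Scheme.{u}} (f : X ⟶ S) [IsProper f] [Flat f] [LocallyOfFinitePresentation f]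
    [ConnectedSpace S]
    (hfib : ∀ (Ω : Type u) [Field Ω] [IsAlgClosed Ω] (s : Spec (CommRingCat.of Ω) ⟶ S),
      ConnectedSpace ↥(pullback f s) ∧ IsReduced (pullback f s))
    (Y : FEt.Cat X) [ConnectedSpace Y.left] (Ω : Type u) [Field Ω] [IsAlgClosed Ω]
    (s : Spec (CommRingCat.of Ω) ⟶ S) (σ : pullback f s ⟶ Y.left)
    (hσ : σ ≫ Y.hom = pullback.fst f s) :
    (FEt.restrict f).essImage Y := by
  let Y0 : Scheme.{u} := Y.left
  haveI : ConnectedSpace ↥Y0 := ‹ConnectedSpace Y.left›
  let π : Y0 ⟶ X := Y.hom
  haveI : IsFinite π := Y.prop.1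
  haveI : Etale π := Y.prop.2
  haveI : GeometricallyConnected f := SteinConn.geometricallyConnected_of_geomPoints f fun K _ _ g => (hfib K g).1
  haveI : Surjective f := ⟨fun z => by
    let a : Spec (CommRingCat.of (AlgebraicClosure (S.residueField z))) ⟶ S :=
      Spec.map (CommRingCat.ofHom (algebraMap (S.residueField z) (AlgebraicClosure (S.residueField z)))) ≫
        S.fromSpecResidueField z
    haveI := (hfib _ a).1
    let w : ↥(pullback f a) := Classical.arbitrary _
    refine ⟨pullback.fst f a w, ?_⟩
    rw [← Scheme.Hom.comp_apply, pullback.condition, Scheme.Hom.comp_apply, Scheme.Hom.comp_apply]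
    exact Scheme.fromSpecResidueField_apply _ _⟩
  let g := π ≫ f
  haveI : GeometricallyReduced g := SteinConn.geometricallyReduced_of_geomPoints g fun K _ _ a => by
    haveI := (hfib K a).2
    haveI : Etale (pullback.snd π (pullback.fst f a)) := MorphismProperty.pullback_snd _ _ inferInstance
    haveI : IsReduced (pullback π (pullback.fst f a)) :=
      ASp.isReduced_of_etale (pullback.snd π (pullback.fst f a))
    exact isReduced_of_isOpenImmersion (pullbackRightPullbackFstIso f a π).inv
  haveI := isFinite_fromNormalization g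
  haveI := etale_fromNormalization g
  let T : FEt.Cat S := MorphismProperty.Over.mk ⊤ g.fromNormalization ⟨inferInstance, inferInstance⟩
  let τ := g.toNormalization
  haveI : Surjective τ := SteinConn.surjective_of_bijApp _ (SteinConn.bijApp_toNormalization g)
  haveI : GeometricallyConnected τ := SteinConn.geometricallyConnected_toNormalization' g
  haveI : ConnectedSpace ↥g.normalization := τ.surjective.connectedSpace τ.continuous
  let P := pullback g.fromNormalization f
  let pT : P ⟶ g.normalization := pullback.fst _ _
  let pX : P ⟶ X := pullback.snd _ _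
  let ρ : Y.left ⟶ P := pullback.lift τ π (g.toNormalization_fromNormalization)
  have hρT : ρ ≫ pT = τ := pullback.lift_fst _ _ _
  have hρX : ρ ≫ pX = π := pullback.lift_snd _ _ _
  haveI : IsProper pT := MorphismProperty.pullback_fst _ _ ‹_›
  haveI : Surjective pT := MorphismProperty.pullback_fst _ _ ‹_›
  haveI : GeometricallyConnected pT := MorphismProperty.pullback_fst _ _ ‹_›
  haveI : ConnectedSpace ↥P := (SteinConn.connectedSpace_iff_of_proper pT).2 inferInstance
  haveI : IsFinite pX := MorphismProperty.pullback_snd _ _ inferInstance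
  haveI : Etale pX := MorphismProperty.pullback_snd _ _ inferInstance
  haveI : IsFinite ρ := by
    haveI : IsFinite (ρ ≫ pX) := hρX ▸ inferInstance
    exact MorphismProperty.of_postcomp (W := @IsFinite) (W' := @IsSeparated) ρ pX inferInstance ‹_›
  haveI : Etale ρ := by
    haveI : Etale (ρ ≫ pX) := hρX ▸ inferInstance
    exact Etale.of_comp ρ pX
  -- one geometric fibre of `ρ` is a point
  haveI := (hfib Ω s).1
  haveI : JacobsonSpace ↥(pullback f s) := LocallyOfFiniteType.jacobsonSpace (pullback.snd f s)
  obtain ⟨z, -, hz⟩ := nonempty_inter_closedPoints (Set.univ_nonempty (α := ↥(pullback f s))) isClosed_univ.isLocallyClosed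
  obtain ⟨x, hx, hxz⟩ := exists_point (pullback.snd f s) z hz
  let y₀ := x ≫ σ
  let p := y₀ ≫ ρ
  haveI : IsFinite (pullback.snd ρ p) := MorphismProperty.pullback_snd _ _ inferInstance
  haveI : Etale (pullback.snd ρ p) := MorphismProperty.pullback_snd _ _ inferInstance
  let e₀ : Spec (CommRingCat.of Ω) ⟶ pullback ρ p := pullback.lift y₀ (𝟙 _) (Category.id_comp _).symm
  have key : ∀ y : Spec (CommRingCat.of Ω) ⟶ Y.left, y ≫ ρ = p → y = y₀ := by
    intro y hy
    let t := y₀ ≫ τ
    have hyT : y ≫ τ = t := by
      rw [← hρT, ← Category.assoc, hy]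
      simp only [p, t, Category.assoc, hρT]
    have hyX : y ≫ π = x ≫ pullback.fst f s := by
      rw [← hρX, ← Category.assoc, hy]
      simp only [p, y₀, Category.assoc, hρX, hσ, π]
    let σ' : pullback f s ⟶ pullback g s := pullback.lift σ (pullback.snd f s) (by
      rw [← Category.assoc, hσ, pullback.condition])
    let m : pullback g s ⟶ pullback f s := pullback.map _ _ _ _ π (𝟙 _) (𝟙 _) (Category.comp_id _) (by simp)
    have hσm : σ' ≫ m = 𝟙 _ := by
      refine pullback.hom_ext ?_ ?_ <;> simp [σ', m, hσ, π]
    haveI : IsFinite m := by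
      have hm : IsPullback (pullback.fst g s) m π (pullback.fst f s) :=
        IsPullback.of_bot (by simpa [g, m] using IsPullback.of_hasPullback g s) (by simp [m])
          (IsPullback.of_hasPullback f s)
      exact MorphismProperty.of_isPullback hm ‹_›
    haveI : Etale m := by
      have hm : IsPullback (pullback.fst g s) m π (pullback.fst f s) :=
        IsPullback.of_bot (by simpa [g, m] using IsPullback.of_hasPullback g s) (by simp [m])
          (IsPullback.of_hasPullback f s)
      exact MorphismProperty.of_isPullback hm ‹_›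
    haveI : IsClosedImmersion (σ' ≫ m) := hσm ▸ inferInstance
    haveI : IsClosedImmersion σ' := IsClosedImmersion.of_comp σ' m
    haveI : Etale (σ' ≫ m) := hσm ▸ inferInstance
    haveI : Etale σ' := Etale.of_comp σ' m
    haveI : IsOpenImmersion σ' := IsOpenImmersion.of_flat_of_mono σ'
    have hclopen : IsClopen (Set.range σ') := ⟨σ'.isClosedEmbedding.isClosed_range, σ'.isOpenEmbedding.isOpen_range⟩
    have hts : t ≫ g.fromNormalization = s := by
      simp only [t, y₀, τ, Category.assoc, g.toNormalization_fromNormalization, g]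
      rw [reassoc_of% hσ, pullback.condition, reassoc_of% hx]
    let j : pullback τ t ⟶ pullback g s := pullback.lift (pullback.fst τ t) (pullback.snd τ t) (by
      rw [← hts, ← pullback.condition_assoc, g.toNormalization_fromNormalization])
    haveI : ConnectedSpace ↥(pullback τ t) :=
      GeometricallyConnected.geometrically_connectedSpace (f := τ) _ _ _ (IsPullback.of_hasPullback τ t)
    let w₀ : Spec (CommRingCat.of Ω) ⟶ pullback τ t := pullback.lift y₀ (𝟙 _) (by simp [t])
    let w : Spec (CommRingCat.of Ω) ⟶ pullback τ t := pullback.lift y (𝟙 _) (by simp [hyT])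
    have hw₀ : w₀ ≫ j = x ≫ σ' := by
      refine pullback.hom_ext ?_ ?_ <;> simp [w₀, j, σ', y₀, hx]
    have hW : j ⁻¹' Set.range σ' = Set.univ := (hclopen.preimage j.continuous).eq_univ
      ⟨w₀ (IsLocalRing.closedPoint Ω), x (IsLocalRing.closedPoint Ω), by
        rw [← Scheme.Hom.comp_apply, ← Scheme.Hom.comp_apply, hw₀]⟩
    let y' := w ≫ j
    have hy' : Set.range y' ⊆ Set.range σ' := by
      rintro _ ⟨c, rfl⟩
      exact (Set.eq_univ_iff_forall.1 hW (w c) :)
    let z' := IsOpenImmersion.lift σ' y' hy'
    have hz' : z' ≫ σ' = y' := IsOpenImmersion.lift_fac _ _ _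
    have hzx : z' = x := by
      calc z' = (z' ≫ σ') ≫ m := by rw [Category.assoc, hσm, Category.comp_id]
        _ = y' ≫ m := by rw [hz']
        _ = x := by
          refine pullback.hom_ext ?_ ?_
          · simp [y', j, w, m, hyX]
          · simp [y', j, w, m, hx]
    have h := congrArg (· ≫ pullback.fst g s) hz'
    simp only [hzx, Category.assoc, σ', pullback.lift_fst, y', j, w] at h
    exact h.symm
  haveI : Unique ↥(pullback ρ p) := by
    haveI : DiscreteTopology ↥(pullback ρ p) := by
      haveI : LocallyQuasiFinite (pullback.snd ρ p) := inferInstance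
      have h := (pullback.snd ρ p).isDiscrete_preimage_singleton default
      rw [show ⇑(pullback.snd ρ p) ⁻¹' {default} = Set.univ from Set.eq_univ_of_forall fun y => Subsingleton.elim _ _] at h
      haveI := h.to_subtype
      exact (Homeomorph.Set.univ _).discreteTopology
    refine ⟨⟨e₀ (IsLocalRing.closedPoint Ω)⟩, fun a => ?_⟩
    obtain ⟨q, hq, hqa⟩ := exists_point (pullback.snd ρ p) a (isClosed_discrete {a})
    have hq0 : q = e₀ := by
      refine pullback.hom_ext ?_ (by simp [e₀, hq])
      rw [pullback.lift_fst]
      exact key _ (by rw [Category.assoc, pullback.condition, reassoc_of% hq])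
    rw [← hqa, hq0]
    rfl
  have hdeg : ρ.finrank (p (IsLocalRing.closedPoint Ω)) = 1 := by
    have h := EtFibCard.card_points_eq_finrank (pullback.snd ρ p) (IsLocalRing.closedPoint Ω)
    rw [Scheme.Hom.finrank_pullback_snd, ENat.card_congr (Equiv.ofUnique ↥(pullback ρ p) PUnit.{1})] at h
    simpa using h.symm
  haveI : IsIso ρ := by
    rw [Scheme.Hom.isIso_iff_finrank_eq]
    refine funext fun q => ?_
    rw [(ρ.isLocallyConstant_finrank).apply_eq_of_isPreconnected isPreconnected_univ trivial
      (Set.mem_univ (p (IsLocalRing.closedPoint Ω))), hdeg]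
    rfl
  exact ⟨T, ⟨(MorphismProperty.Over.isoMk (asIso ρ) hρX).symm⟩⟩

end Groth.Agent.SteinEtLib
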