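import Groth.Agent.SteinEtLib.Etale
import Groth.Prelude.Def_Omega4

/-!
# Derivations kill the functions pushed forward to the base
-/

set_option autoImplicit false
set_option backward.isDefEq.respectTransparency false
set_option linter.style.haveILetI false

universe u

open CategoryTheory CategoryTheory.Limits AlgebraicGeometry TopologicalSpace Opposite

noncomputable section

namespace Groth.Agent.SteinEtLib

variable {X S : Scheme.{u}} {f : X ⟶ S} [IsProper f] [Flat f] [LocallyOfFinitePresentation f] [GeometricallyReduced f]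
  {F : X.Modules}

theorem der_eq_zero_affine (d : OmegaSh.Der f F) {V : S.Opens} (hV : IsAffineOpen V) (s : Γ(X, f ⁻¹ᵁ V)) :
    d.app (f ⁻¹ᵁ V) s = 0 := by
  letI := (f.app V).hom.toAlgebra
  letI := Module.compHom Γ(F, f ⁻¹ᵁ V) (f.app V).hom
  haveI : IsScalarTower Γ(S, V) Γ(X, f ⁻¹ᵁ V) Γ(F, f ⁻¹ᵁ V) := .of_algebraMap_smul fun _ _ => rfl
  haveI : Algebra.Etale Γ(S, V) Γ(X, f ⁻¹ᵁ V) := (finite_etale hV).2
  let D : Derivation Γ(S, V) Γ(X, f ⁻¹ᵁ V) Γ(F, f ⁻¹ᵁ V) :=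
    { toFun := d.app (f ⁻¹ᵁ V)
      map_add' := map_add _
      map_smul' := fun a b => by
        show d.app (f ⁻¹ᵁ V) (f.app V a * b) = f.app V a • d.app (f ⁻¹ᵁ V) b
        rw [show d.app (f ⁻¹ᵁ V) (f.app V a * b) = f.app V a • d.app (f ⁻¹ᵁ V) b + b • d.app (f ⁻¹ᵁ V) (f.app V a)
          from d.d_mul _ _, show d.app (f ⁻¹ᵁ V) (f.app V a) = 0 from d.d_app a, smul_zero, add_zero]
      map_one_eq_zero' := d.d_one _
      leibniz' := fun a b => d.d_mul a b }
  show D s = 0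
  rw [← D.liftKaehlerDifferential_comp_D, Subsingleton.elim (KaehlerDifferential.D _ _ s) 0, map_zero]

theorem der_eq_zero (d : OmegaSh.Der f F) (V : S.Opens) (s : Γ(X, f ⁻¹ᵁ V)) : d.app (f ⁻¹ᵁ V) s = 0 := by
  refine TopCat.Presheaf.section_ext ((QCohLib.toAbF X).obj F) (f ⁻¹ᵁ V) _ _ fun x hx => ?_
  obtain ⟨_, ⟨W : S.Opens, hW : IsAffineOpen W, rfl⟩, hxW, hWV⟩ :=
    S.isBasis_affineOpens.exists_subset_of_mem_open (show f x ∈ V from hx) V.2
  show F.presheaf.germ (f ⁻¹ᵁ V) x hx (d.app (f ⁻¹ᵁ V) s) = F.presheaf.germ (f ⁻¹ᵁ V) x hx 0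
  rw [map_zero, ← ZClosLib.germ_res' F (f.preimage_mono hWV) x hxW,
    show F.presheaf.map (homOfLE (f.preimage_mono hWV)).op (d.app (f ⁻¹ᵁ V) s) =
      d.app (f ⁻¹ᵁ W) (X.presheaf.map (homOfLE (f.preimage_mono hWV)).op s) from (d.d_map (homOfLE (f.preimage_mono hWV)).op s).symm,
    der_eq_zero_affine d hW, map_zero]

end Groth.Agent.SteinEtLib
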