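import Groth.Agent.SteinEtLib.Etale
import Groth.Agent.SteinConn.GeomPoints

/-!
# Stein factorisation of a proper flat morphism with geometrically reduced fibres
-/

set_option autoImplicit false
set_option backward.isDefEq.respectTransparency false
set_option backward.defeqAttrib.useBackward true
set_option linter.style.haveILetI false
set_option linter.unusedSectionVars false
set_option maxHeartbeats 1000000

universe u

open CategoryTheory CategoryTheory.Limits AlgebraicGeometry TopologicalSpace Opposite TensorProduct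

noncomputable section

namespace Groth.Agent.SteinEtLib

variable {X S : Scheme.{u}} (f : X ⟶ S) [IsProper f] [Flat f] [LocallyOfFinitePresentation f] [GeometricallyReduced f]

theorem integralClosure_eq_top {V : S.Opens} (hV : IsAffineOpen V) :
    letI := (f.app V).hom.toAlgebra
    integralClosure Γ(S, V) Γ(X, f ⁻¹ᵁ V) = ⊤ := by
  letI := (f.app V).hom.toAlgebra
  rw [integralClosure_eq_top_iff, ← algebraMap_isIntegral_iff, RingHom.algebraMap_toAlgebra]
  exact RingHom.IsIntegral.of_finite (finite_etale hV).1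

theorem finite_etale_fromNormalization_app {V : S.Opens} (hV : IsAffineOpen V) :
    (f.fromNormalization.app V).hom.Finite ∧ (f.fromNormalization.app V).hom.Etale := by
  letI := (f.app V).hom.toAlgebra
  let C := integralClosure Γ(S, V) Γ(X, f ⁻¹ᵁ V)
  have hval : Function.Bijective (C.val.toRingHom) :=
    ⟨Subtype.val_injective, fun b => ⟨⟨b, by rw [show C = ⊤ from integralClosure_eq_top f hV]; trivial⟩, rfl⟩⟩
  let ψ : Γ(X, f ⁻¹ᵁ V) →+* C := (RingEquiv.ofBijective _ hval).symm.toRingHom
  have hψ : Function.Bijective ψ := (RingEquiv.ofBijective _ hval).symm.bijective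
  have h1 : algebraMap Γ(S, V) C = ψ.comp (f.app V).hom := RingHom.ext fun a =>
    ((RingEquiv.ofBijective _ hval).symm_apply_apply (algebraMap Γ(S, V) C a)).symm
  obtain ⟨hfin, het⟩ := finite_etale (f := f) hV
  let e := (f.normalizationObjIso hV).inv
  have he : Function.Bijective e := ConcreteCategory.bijective_of_isIso e
  rw [f.fromNormalization_app hV]
  show (e.hom.comp (algebraMap Γ(S, V) C)).Finite ∧ (e.hom.comp (algebraMap Γ(S, V) C)).Etale
  rw [h1]
  exact ⟨(RingHom.Finite.of_surjective _ he.2).comp ((RingHom.Finite.of_surjective _ hψ.2).comp hfin),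
    RingHom.Etale.stableUnderComposition _ _ (RingHom.Etale.stableUnderComposition _ _ het (RingHom.Etale.of_bijective hψ))
      (RingHom.Etale.of_bijective he)⟩

theorem isFinite_fromNormalization : IsFinite f.fromNormalization :=
  (isFinite_iff _).2 ⟨inferInstance, fun _ hV => (finite_etale_fromNormalization_app f hV).1⟩

theorem etale_fromNormalization : Etale f.fromNormalization := by
  refine (IsZariskiLocalAtTarget.iff_of_iSup_eq_top (P := @Etale) _ (iSup_affineOpens_eq_top S)).2 fun U => ?_
  haveI : IsAffine (U.1 : Scheme.{u}) := U.2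
  haveI : IsAffine (f.fromNormalization ⁻¹ᵁ U.1 : Scheme.{u}) := U.2.preimage f.fromNormalization
  rw [HasRingHomProperty.iff_of_isAffine (P := @Etale), morphismRestrict_appTop, CommRingCat.hom_comp]
  exact RingHom.Etale.stableUnderComposition _ _
    (finite_etale_fromNormalization_app f ((isAffineOpen_top _).image_of_isOpenImmersion U.1.ι)).2
    (RingHom.Etale.of_bijective (ConcreteCategory.bijective_of_isIso _))

/-- The Stein factorisation commutes with base change. -/
theorem isIso_normalizationPullback {Y : Scheme.{u}} (g : Y ⟶ S) : IsIso (f.normalizationPullback g) := by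
  haveI := etale_fromNormalization f
  haveI : GeometricallyReduced (pullback.snd f g) := MorphismProperty.pullback_snd _ _ ‹_›
  haveI : Flat (pullback.snd f g) := MorphismProperty.pullback_snd _ _ ‹_›
  haveI : IsProper (pullback.snd f g) := MorphismProperty.pullback_snd _ _ ‹_›
  haveI : LocallyOfFinitePresentation (pullback.snd f g) := MorphismProperty.pullback_snd _ _ ‹_›
  apply IsZariskiLocalAtTarget.of_forall_exists_morphismRestrict (P := .isomorphisms _) fun x ↦ ?_
  obtain ⟨_, ⟨U, hU, rfl⟩, hxU, -⟩ := S.isBasis_affineOpens.exists_subset_of_mem_open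
    (Set.mem_univ ((pullback.snd _ g ≫ g) x)) isOpen_univ
  obtain ⟨_, ⟨V, hV, rfl⟩, hxV, hVU : V ≤ g ⁻¹ᵁ U⟩ :=
    Y.isBasis_affineOpens.exists_subset_of_mem_open (a := pullback.snd _ g x) hxU (g ⁻¹ᵁ U).2
  let W := pullback.snd (Scheme.Hom.fromNormalization f) g ⁻¹ᵁ V
  refine ⟨W, hxV, (isIso_morphismRestrict_iff_isIso_app _ (U := W) (hV.preimage _)).mpr ?_⟩
  have := isIso_pushoutSection_of_isAffineOpen
    (.of_hasPullback f.fromNormalization g) hVU le_rfl (UY := W)
    (by simp_rw [W, ← Scheme.Hom.comp_preimage, pullback.condition, Scheme.Hom.comp_preimage,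
      ← Scheme.Hom.preimage_inf, inf_eq_right.mpr hVU]) hU hV (hU.preimage f.fromNormalization)
  rw [← @isIso_comp_left_iff _ _ _ _ _ _ _ this,
    ← isIso_comp_left_iff (pushout.congrHom f.fromNormalization.app_eq_appLE rfl).hom]
  letI := (f.app U).hom.toAlgebra
  letI := (g.appLE U V hVU).hom.toAlgebra
  letI := ((pullback.snd f g).app V).hom.toAlgebra
  have w := (IsPullback.of_hasPullback f g).w
  let e : Γ(Y, V) ⊗[Γ(S, U)] Γ(X, f ⁻¹ᵁ U) ≃ₐ[Γ(Y, V)] Γ(pullback f g, pullback.snd f g ⁻¹ᵁ V) :=
    { toRingEquiv := RingEquiv.ofBijective _ (bcHom_bijective (IsPullback.of_hasPullback f g) hU hV hVU)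
      commutes' := fun r => by
        show bcHom w hVU (r ⊗ₜ 1) = _
        rw [bcHom_tmul, map_one, mul_one]
        rfl }
  let ιC : Γ(Y, V) ⊗[Γ(S, U)] integralClosure Γ(S, U) Γ(X, f ⁻¹ᵁ U) ≃ₐ[Γ(Y, V)] Γ(Y, V) ⊗[Γ(S, U)] Γ(X, f ⁻¹ᵁ U) :=
    Algebra.TensorProduct.congr AlgEquiv.refl
      ((Subalgebra.equivOfEq _ _ (integralClosure_eq_top f hU)).trans Subalgebra.topEquiv)
  let ψ : Γ(Y, V) ⊗[Γ(S, U)] integralClosure Γ(S, U) Γ(X, f ⁻¹ᵁ U) →ₐ[Γ(Y, V)]
      integralClosure Γ(Y, V) Γ(pullback f g, pullback.snd f g ⁻¹ᵁ V) :=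
    (((Subalgebra.equivOfEq _ _ (integralClosure_eq_top (pullback.snd f g) hV)).trans
      Subalgebra.topEquiv).symm.toAlgHom.comp e.toAlgHom).comp ιC.toAlgHom
  have hψ : Function.Bijective ψ :=
    ((Subalgebra.equivOfEq _ _ (integralClosure_eq_top (pullback.snd f g) hV)).trans
      Subalgebra.topEquiv).symm.bijective.comp (e.bijective.comp ιC.bijective)
  let φ : pushout (f.fromNormalization.app U) (g.appLE U V hVU) ⟶
      Γ((pullback.snd f g).normalization, f.normalizationPullback g ⁻¹ᵁ W) :=
    pushout.map _ _ (CommRingCat.ofHom (algebraMap Γ(S, U) (integralClosure Γ(S, U) Γ(X, f ⁻¹ᵁ U))))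
      (g.appLE U V hVU) (f.normalizationObjIso hU).hom (𝟙 _) (𝟙 _)
      (by simp [Scheme.Hom.fromNormalization_app _ hU]) (by simp) ≫
    (CommRingCat.isPushout_tensorProduct ..).flip.isoPushout.inv ≫
    (RingEquiv.ofBijective ψ.toRingHom hψ).toCommRingCatIso.hom ≫
    ((pullback.snd f g).normalizationObjIso hV).inv ≫
    (pullback.snd f g).normalization.presheaf.map (eqToHom
      (by simp only [W, ← Scheme.Hom.comp_preimage, Scheme.Hom.normalizationPullback_snd])).op
  convert! show IsIso φ by dsimp only [φ]; infer_instance using 1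
  ext1
  · dsimp [φ]
    simp only [Scheme.Hom.app_eq_appLE, colimit.ι_desc_assoc, span_left, PushoutCocone.mk_pt,
      PushoutCocone.mk_ι_app, Category.id_comp, Scheme.Hom.appLE_comp_appLE, eqToHom_op,
      Category.assoc, IsPushout.inl_isoPushout_inv_assoc]
    simp_rw [← Category.assoc, ← IsIso.comp_inv_eq]
    simp only [← Functor.map_inv, inv_eqToHom, Scheme.Hom.appLE_map, IsIso.Iso.inv_inv,
      Category.assoc]
    have : Mono (CommRingCat.ofHom (integralClosure Γ(Y, V)
        Γ(pullback f g, pullback.snd f g ⁻¹ᵁ V)).val.toRingHom) :=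
      ConcreteCategory.mono_of_injective _ Subtype.val_injective
    rw [← cancel_mono (CommRingCat.ofHom (Subalgebra.val _).toRingHom)]
    simp only [Category.assoc, Scheme.Hom.normalizationObjIso_hom_val, Scheme.Hom.appLE_comp_appLE,
      Scheme.Hom.toNormalization_normalizationPullback_fst, ← CommRingCat.ofHom_comp]
    have H : pullback.snd f g ⁻¹ᵁ V ≤ pullback.fst f g ⁻¹ᵁ f ⁻¹ᵁ U := sqLE w hVU
    trans (f.normalizationObjIso hU).hom ≫ CommRingCat.ofHom
        (integralClosure Γ(S, U) Γ(X, f ⁻¹ᵁ U)).val.toRingHom ≫ (pullback.fst f g).appLE _ _ H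
    · rw [reassoc_of% Scheme.Hom.normalizationObjIso_hom_val, Scheme.Hom.appLE_comp_appLE]
    · congr 1
      ext x
      change (pullback.fst f g).appLE _ _ H x = _
      refine Eq.trans ?_ (show bcHom w hVU ((1 : Γ(Y, V)) ⊗ₜ (x : Γ(X, f ⁻¹ᵁ U))) = _ from rfl)
      rw [bcHom_tmul, map_one, one_mul]
  · dsimp [φ]
    simp only [Scheme.Hom.app_eq_appLE, colimit.ι_desc_assoc, span_right, PushoutCocone.mk_pt,
      PushoutCocone.mk_ι_app, Category.id_comp, Scheme.Hom.appLE_comp_appLE,
      Scheme.Hom.normalizationPullback_snd, eqToHom_op, IsPushout.inr_isoPushout_inv_assoc]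
    simp_rw [← Category.assoc, ← IsIso.comp_inv_eq]
    simp only [← Functor.map_inv, inv_eqToHom, Scheme.Hom.appLE_map, ← Scheme.Hom.app_eq_appLE,
      Scheme.Hom.fromNormalization_app _ hV, IsIso.Iso.inv_inv, Category.assoc, Iso.inv_hom_id,
      Category.comp_id]
    exact congr(CommRingCat.ofHom $(ψ.comp_algebraMap.symm))

end Groth.Agent.SteinEtLib
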