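import Groth.Agent.SteinConn.HenselConn
import Groth.Agent.PicTrivLib.Const
import Groth.Agent.GeomIrred.Scheme
import Groth.Agent.Hensel.Local
import Groth.Agent.S0252
import Groth.Agent.ArtGrpLib.Component
import Groth.Agent.NearGen.FibreScheme

/-!
# Idempotent functions: lifting over henselian local rings, spanning over separably closed fields
-/

set_option autoImplicit false
set_option backward.isDefEq.respectTransparency false
set_option linter.style.haveILetI false
set_option linter.unusedSectionVars false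

universe u

open CategoryTheory CategoryTheory.Limits AlgebraicGeometry TopologicalSpace

noncomputable section

namespace Groth.Agent.SteinEtLib

/-- Idempotent functions with the same non-vanishing locus agree. -/
theorem eq_of_idem {X : Scheme.{u}} [CompactSpace X] {a b : Γ(X, ⊤)} (ha : IsIdempotentElem a)
    (hb : IsIdempotentElem b) (h : ∀ x, x ∈ X.basicOpen a ↔ x ∈ X.basicOpen b) : a = b := by
  have key : ∀ {a b : Γ(X, ⊤)}, IsIdempotentElem a → IsIdempotentElem b →
      (∀ x, x ∈ X.basicOpen a → x ∈ X.basicOpen b) → a * b = a := by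
    intro a b ha hb h
    have hi : IsIdempotentElem (a * (1 - b)) := ha.mul hb.one_sub
    have h0 : X.basicOpen (a * (1 - b)) = ⊥ := by
      rw [Scheme.basicOpen_mul]
      refine eq_bot_iff.2 fun x hx => ?_
      have h1 : x ∈ X.basicOpen (b * (1 - b)) := by rw [Scheme.basicOpen_mul]; exact ⟨h x hx.1, hx.2⟩
      rw [hb.mul_one_sub_self, Scheme.basicOpen_zero] at h1
      exact h1
    obtain ⟨n, hn⟩ := (Scheme.isNilpotent_iff_basicOpen_eq_bot _).2 h0
    have h2 : a * (1 - b) = 0 := by
      rcases n with _ | n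
      · rw [pow_zero] at hn
        calc a * (1 - b) = a * (1 - b) * 1 := (mul_one _).symm
          _ = 0 := by rw [hn, mul_zero]
      · rw [← hn, hi.pow_succ_eq]
    rw [mul_sub, mul_one, sub_eq_zero] at h2
    exact h2.symm
  have h1 := key ha hb fun x => (h x).1
  have h2 := key hb ha fun x => (h x).2
  rw [mul_comm] at h2
  exact h1.symm.trans h2

theorem isClopen_basicOpen {X : Scheme.{u}} {a : Γ(X, ⊤)} (ha : IsIdempotentElem a) :
    IsClopen (X.basicOpen a : Set X) := by
  refine ⟨?_, (X.basicOpen a).2⟩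
  have h : (X.basicOpen a : Set X) = (X.basicOpen (1 - a) : Set X)ᶜ := by
    ext x
    refine ⟨fun hx hx' => ?_, fun hx => ?_⟩
    · have : x ∈ X.basicOpen (a * (1 - a)) := by rw [Scheme.basicOpen_mul]; exact ⟨hx, hx'⟩
      rw [ha.mul_one_sub_self, Scheme.basicOpen_zero] at this
      exact this
    · change x ∉ X.basicOpen (1 - a) at hx
      show x ∈ X.basicOpen a
      rw [X.mem_basicOpen _ x (show x ∈ (⊤ : X.Opens) from trivial)] at hx ⊢
      rcases IsLocalRing.isUnit_or_isUnit_of_add_one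
          (show X.presheaf.germ ⊤ x trivial a + X.presheaf.germ ⊤ x trivial (1 - a) = 1 by
            rw [← map_add, add_sub_cancel, map_one]) with h1 | h1
      · exact h1
      · exact absurd h1 hx
  rw [h]
  exact (X.basicOpen (1 - a)).2.isClosed_compl

/-- Idempotent functions on the closed fibre lift over a henselian local ring. -/
theorem exists_lift_idempotent {R : Type u} [CommRing R] [HenselianLocalRing R] {X X₀ : Scheme.{u}}
    (f : X ⟶ Spec (CommRingCat.of R)) [IsProper f] (i : X₀ ⟶ X) (hi : IsClosedImmersion i)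
    (hrange : Set.range i = f ⁻¹' {IsLocalRing.closedPoint R})
    {e₀ : Γ(X₀, ⊤)} (he₀ : IsIdempotentElem e₀) : ∃ b : Γ(X, ⊤), i.appTop b = e₀ := by
  haveI : HenselianRing R (IsLocalRing.maximalIdeal R) := Hensel.henselianRing_maximalIdeal_iff.2 inferInstance
  haveI : CompactSpace X := QuasiCompact.compactSpace_of_compactSpace f
  haveI : CompactSpace X₀ := QuasiCompact.compactSpace_of_compactSpace i
  haveI : IsAffine f.normalization := isAffine_of_isAffineHom f.fromNormalization
  let e := f.normalization.isoSpec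
  let B := Γ(f.normalization, ⊤)
  let φ := Spec.preimage (e.inv ≫ f.fromNormalization)
  have hSφ : Spec.map φ = e.inv ≫ f.fromNormalization := Spec.map_preimage _
  have hint : φ.hom.IsIntegral := by
    rw [← IsIntegralHom.SpecMap_iff, hSφ]
    infer_instance
  let τ := f.toNormalization ≫ e.hom
  have hτ : τ ≫ Spec.map φ = f := by
    rw [hSφ, Category.assoc, Iso.hom_inv_id_assoc, f.toNormalization_fromNormalization]
  haveI : Surjective f.toNormalization := SteinConn.surjective_of_bijApp _ (SteinConn.bijApp_toNormalization f)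
  haveI := SteinConn.geometricallyConnected_toNormalization' f
  haveI : IsProper τ := inferInstanceAs (IsProper (f.toNormalization ≫ e.hom))
  haveI : Surjective τ := inferInstanceAs (Surjective (f.toNormalization ≫ e.hom))
  haveI : GeometricallyConnected τ :=
    (MorphismProperty.cancel_right_of_respectsIso @GeometricallyConnected _ e.hom).2 inferInstance
  algebraize [φ.hom]
  let J : Ideal B := (IsLocalRing.maximalIdeal R).map (algebraMap R B)
  let q : PrimeSpectrum (B ⧸ J) → PrimeSpectrum B := PrimeSpectrum.comap (Ideal.Quotient.mk J)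
  have hq : Continuous q := PrimeSpectrum.continuous_comap _
  have hτf : ∀ x, f x = PrimeSpectrum.comap φ.hom (τ x) := fun x => by
    conv_lhs => rw [← hτ]
    rfl
  have hqr : Set.range q = PrimeSpectrum.comap φ.hom ⁻¹' {IsLocalRing.closedPoint R} := by
    rw [range_comap_of_surjective _ _ Ideal.Quotient.mk_surjective, Ideal.mk_ker,
      show ({IsLocalRing.closedPoint R} : Set (PrimeSpectrum R)) =
        PrimeSpectrum.zeroLocus (IsLocalRing.maximalIdeal R) from (PrimeSpectrum.zeroLocus_eq_singleton _).symm, PrimeSpectrum.preimage_comap_zeroLocus,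
      ← PrimeSpectrum.zeroLocus_span (φ.hom '' _)]
    rfl
  let U : Set X₀ := (X₀.basicOpen e₀ : Set X₀)
  have hU : IsClopen U := isClopen_basicOpen he₀
  let T₁ : Set (PrimeSpectrum B) := τ '' (i '' U)
  let T₂ : Set (PrimeSpectrum B) := τ '' (i '' Uᶜ)
  have hT₁ : IsClosed T₁ := τ.isClosedMap _ (i.isClosedEmbedding.isClosedMap _ hU.1)
  have hT₂ : IsClosed T₂ := τ.isClosedMap _ (i.isClosedEmbedding.isClosedMap _ hU.compl.1)
  have hdisj : Disjoint T₁ T₂ := by
    rw [Set.disjoint_left]
    rintro b ⟨_, ⟨x, hx, rfl⟩, rfl⟩ ⟨_, ⟨y, hy, rfl⟩, hxy⟩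
    haveI : ConnectedSpace ↥(τ.fiber (τ (i x))) := inferInstance
    have hc : _root_.IsPreconnected (τ ⁻¹' {τ (i x)}) := by
      rw [← Scheme.Hom.range_fiberι]
      exact isPreconnected_range (τ.fiberι _).continuous
    have hsub : τ ⁻¹' {τ (i x)} ⊆ i '' U ∪ i '' Uᶜ := fun z hz => by
      rw [← Set.image_union, Set.union_compl_self, Set.image_univ, hrange]
      have h1 : i x ∈ Set.range i := ⟨x, rfl⟩
      rw [hrange] at h1
      show f z = IsLocalRing.closedPoint R
      rw [hτf z, show τ z = τ (i x) from hz, ← hτf]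
      exact h1
    obtain ⟨z, -, hz1, hz2⟩ := isPreconnected_closed_iff.1 hc _ _ (i.isClosedEmbedding.isClosedMap _ hU.1)
      (i.isClosedEmbedding.isClosedMap _ hU.compl.1) hsub ⟨i x, rfl, x, hx, rfl⟩ ⟨i y, hxy, y, hy, rfl⟩
    obtain ⟨a, ha, rfl⟩ := hz1
    obtain ⟨b, hb, hab⟩ := hz2
    exact hb (i.isClosedEmbedding.injective hab ▸ ha)
  have hcov : ∀ y, q y ∈ T₁ ∪ T₂ := fun y => by
    obtain ⟨x, hx⟩ := τ.surjective (q y)
    have h1 : x ∈ Set.range i := by
      rw [hrange]
      show f x = IsLocalRing.closedPoint R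
      rw [hτf x, hx]
      exact (Set.ext_iff.1 hqr (q y)).1 ⟨y, rfl⟩
    obtain ⟨x₀, rfl⟩ := h1
    by_cases hx₀ : x₀ ∈ U
    · exact Or.inl ⟨_, ⟨x₀, hx₀, rfl⟩, hx⟩
    · exact Or.inr ⟨_, ⟨x₀, hx₀, rfl⟩, hx⟩
  have hT : IsClopen (q ⁻¹' T₁) := ⟨hT₁.preimage hq, by
    rw [show q ⁻¹' T₁ = (q ⁻¹' T₂)ᶜ from Set.ext fun y =>
      ⟨fun h h' => Set.disjoint_left.1 hdisj h h', fun h => (hcov y).resolve_right h⟩]
    exact (hT₂.preimage hq).isOpen_compl⟩
  obtain ⟨ē, hē, hTē⟩ := PrimeSpectrum.exists_idempotent_basicOpen_eq_of_isClopen hT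
  obtain ⟨b, hb, rfl⟩ := (Hensel.bijOn_idempotent (A := R) (I := IsLocalRing.maximalIdeal R) B).surjOn hē
  refine ⟨τ.appTop ((Scheme.ΓSpecIso B).inv b), eq_of_idem ((IsIdempotentElem.map hb
    (Scheme.ΓSpecIso B).inv.hom).map τ.appTop.hom |>.map i.appTop.hom) he₀ fun x => ?_⟩
  rw [← Scheme.preimage_basicOpen_top, ← Scheme.preimage_basicOpen_top]
  show τ (i x) ∈ (Spec B).basicOpen ((Scheme.ΓSpecIso B).inv b) ↔ x ∈ U
  rw [basicOpen_eq_of_affine]
  have h2 : τ (i x) ∈ Set.range q := by
    rw [hqr]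
    show PrimeSpectrum.comap φ.hom (τ (i x)) = IsLocalRing.closedPoint R
    rw [← hτf]
    exact (Set.ext_iff.1 hrange (i x)).1 ⟨x, rfl⟩
  obtain ⟨y, hy⟩ := h2
  show τ (i x) ∈ PrimeSpectrum.basicOpen b ↔ _
  rw [← hy, show q y ∈ PrimeSpectrum.basicOpen b ↔ y ∈ (PrimeSpectrum.basicOpen (Ideal.Quotient.mk J b) : Set _)
    from Iff.rfl, ← hTē, Set.mem_preimage, hy]
  refine ⟨fun h => ?_, fun h => ⟨_, ⟨x, h, rfl⟩, rfl⟩⟩
  by_contra hx
  exact Set.disjoint_left.1 hdisj h ⟨_, ⟨x, hx, rfl⟩, rfl⟩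

/-- Functions on a proper geometrically reduced scheme over a separably closed field are combinations of idempotents. -/
theorem mem_span_idempotent {k : Type u} [Field k] [IsSepClosed k] {Y : Scheme.{u}}
    (g : Y ⟶ Spec (CommRingCat.of k)) [IsProper g] [GeometricallyReduced g] (y : Γ(Y, ⊤)) :
    ∃ (n : ℕ) (c : Fin n → Γ(Spec (CommRingCat.of k), ⊤)) (e : Fin n → Γ(Y, ⊤)),
      (∀ j, IsIdempotentElem (e j)) ∧ y = ∑ j, g.appTop (c j) * e j := by
  classical
  haveI : IsLocallyNoetherian Y := LocallyOfFiniteType.isLocallyNoetherian g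
  haveI : CompactSpace Y := QuasiCompact.compactSpace_of_compactSpace g
  haveI : IsNoetherian Y := {}
  have hop : ∀ x : Y, IsOpen (connectedComponent x) := fun x => ArtGrpLib.isOpen_connectedComponent x
  obtain ⟨t, ht⟩ := (isCompact_univ (X := Y)).elim_finite_subcover (fun x => connectedComponent x) hop
    fun x _ => Set.mem_iUnion.2 ⟨x, mem_connectedComponent⟩
  let comps : Finset (Set Y) := t.image connectedComponent
  let n := comps.card
  let C : Fin n → Set Y := fun j => (comps.equivFin.symm j).1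
  have hC : ∀ j, ∃ x, C j = connectedComponent x := fun j => by
    obtain ⟨x, -, hx⟩ := Finset.mem_image.1 (comps.equivFin.symm j).2
    exact ⟨x, hx.symm⟩
  have hCc : ∀ j, IsClopen (C j) := fun j => by
    obtain ⟨x, hx⟩ := hC j
    rw [hx]
    exact ⟨isClosed_connectedComponent, hop x⟩
  have hcov : ∀ z, ∃ j, z ∈ C j := fun z => by
    obtain ⟨x, hx, hz⟩ := Set.mem_iUnion₂.1 (ht (Set.mem_univ z))
    exact ⟨comps.equivFin ⟨_, Finset.mem_image_of_mem _ hx⟩, by simpa [C] using hz⟩
  have huniq : ∀ {z i j}, z ∈ C i → z ∈ C j → i = j := fun {z i j} hi hj => by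
    obtain ⟨a, ha⟩ := hC i
    obtain ⟨b, hb⟩ := hC j
    rw [ha] at hi; rw [hb] at hj
    exact comps.equivFin.symm.injective (Subtype.ext
      (show C i = C j by rw [ha, hb, connectedComponent_eq hi, connectedComponent_eq hj]))
  choose e he heC using fun j => S0252.exists_idem (hCc j)
  have hconst : ∀ j, ∃ c : Γ(Spec (CommRingCat.of k), ⊤), ∀ z (hz : z ∈ C j),
      Y.presheaf.germ ⊤ z trivial y = Y.presheaf.germ ⊤ z trivial (g.appTop c) := fun j => by
    let U : Y.Opens := ⟨C j, (hCc j).2⟩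
    haveI : ConnectedSpace ↥(U : Scheme.{u}) := by
      obtain ⟨x, hx⟩ := hC j
      exact isConnected_iff_connectedSpace.1 (show _root_.IsConnected (C j) by
        rw [hx]; exact isConnected_connectedComponent)
    haveI : IsClosedImmersion U.ι := .of_isPreimmersion U.ι (by rw [Scheme.Opens.range_ι]; exact (hCc j).1)
    let gU := U.ι ≫ g
    haveI : IsProper gU := inferInstanceAs (IsProper (U.ι ≫ g))
    haveI : GeometricallyConnected gU := GeomIrred.geometricallyConnected_of_connectedSpace gU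
    haveI : GeometricallyReduced gU := NearGen.geometricallyReduced_chart g U.ι
    have hb := PicTrivLib.bijective_appTop_of_geom gU
    obtain ⟨c, hc⟩ := hb.2 (U.ι.appTop y)
    refine ⟨(Scheme.ΓSpecIso (CommRingCat.of k)).inv c, fun z hz => ?_⟩
    have h2 : U.ι.appTop y = U.ι.appTop (g.appTop ((Scheme.ΓSpecIso (CommRingCat.of k)).inv c)) := by
      rw [← hc]
      rfl
    have h3 := congrArg ((U : Scheme.{u}).presheaf.germ ⊤ ⟨z, hz⟩ trivial) h2
    erw [← Scheme.Hom.germ_stalkMap_apply U.ι ⊤ ⟨z, hz⟩ trivial, ← Scheme.Hom.germ_stalkMap_apply U.ι ⊤ ⟨z, hz⟩ trivial] at h3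
    exact (ConcreteCategory.bijective_of_isIso (U.ι.stalkMap ⟨z, hz⟩)).1 h3
  choose c hc using hconst
  refine ⟨n, c, e, he, TopCat.Presheaf.section_ext Y.sheaf ⊤ _ _ fun z _ => ?_⟩
  show Y.presheaf.germ ⊤ z trivial y = Y.presheaf.germ ⊤ z trivial (∑ j, g.appTop (c j) * e j)
  obtain ⟨i, hi⟩ := hcov z
  have hone : Y.presheaf.germ ⊤ z trivial (e i) = 1 := by
    refine (IsIdempotentElem.iff_eq_one_of_isUnit ?_).1 ((he i).map _)
    rw [← Y.mem_basicOpen _ z (show z ∈ (⊤ : Y.Opens) from trivial)]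
    exact (Set.ext_iff.1 (heC i) z).2 hi
  have hzero : ∀ j, j ≠ i → Y.presheaf.germ ⊤ z trivial (e j) = 0 := fun j hj => by
    rcases IsLocalRing.isUnit_or_isUnit_of_add_one
        (show Y.presheaf.germ ⊤ z trivial (e j) + (1 - Y.presheaf.germ ⊤ z trivial (e j)) = 1 by ring) with h1 | h1
    · rw [← Y.mem_basicOpen _ z (show z ∈ (⊤ : Y.Opens) from trivial)] at h1
      exact absurd (huniq ((Set.ext_iff.1 (heC j) z).1 h1) hi) hj
    · exact sub_eq_self.1 ((IsIdempotentElem.iff_eq_one_of_isUnit h1).1 ((he j).map _).one_sub)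
  rw [map_sum, Finset.sum_eq_single i (fun j _ hj => by rw [map_mul, hzero j hj, mul_zero])
    (fun h => absurd (Finset.mem_univ i) h), map_mul, hone, mul_one]
  exact hc i z hi

end Groth.Agent.SteinEtLib
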